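import Mathlib.CategoryTheory.Monoidal.Braided.Basic
import Mathlib.CategoryTheory.Monoidal.NaturalTransformation
import Mathlib.CategoryTheory.Groupoid
import Mathlib.CategoryTheory.Equivalence
import Mathlib.CategoryTheory.Whiskering

/-!
# The free commutative Picard category on a symmetric monoidal category

Objects are formal words in the objects of `A`, a unit, binary products and formal inverses;
morphisms are formal composites of the structural isomorphisms, of the morphisms of `A`, of the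
structure maps of the inclusion and of isomorphisms `inv x ⊗ x ≅ one`, modulo the congruence
generated by the axioms of a symmetric monoidal groupoid and of a lax braided functor.
-/

set_option autoImplicit false

universe v v' u u'

open CategoryTheory MonoidalCategory Functor.LaxMonoidal

namespace Groth.Agent.PicardCpl

variable (A : Type u) [Category.{v} A] [MonoidalCategory A] [SymmetricCategory A]

/-- Formal words. -/
inductive Obj : Type u
  | of (a : A)
  | one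
  | tens (x y : Obj)
  | neg (x : Obj)

variable {A}

/-- Formal morphisms. -/
inductive Pre : Obj A → Obj A → Type (max u v)
  | id (x : Obj A) : Pre x x
  | comp {x y z : Obj A} (f : Pre x y) (g : Pre y z) : Pre x z
  | inv {x y : Obj A} (f : Pre x y) : Pre y x
  | of {a b : A} (f : a ⟶ b) : Pre (.of a) (.of b)
  | tens {x y x' y' : Obj A} (f : Pre x y) (g : Pre x' y') : Pre (.tens x x') (.tens y y')
  | assoc (x y z : Obj A) : Pre (.tens (.tens x y) z) (.tens x (.tens y z))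
  | lu (x : Obj A) : Pre (.tens .one x) x
  | ru (x : Obj A) : Pre (.tens x .one) x
  | braid (x y : Obj A) : Pre (.tens x y) (.tens y x)
  | eval (x : Obj A) : Pre (.tens (.neg x) x) .one
  | unit : Pre .one (.of (𝟙_ A))
  | mul (a b : A) : Pre (.tens (.of a) (.of b)) (.of (a ⊗ b))

/-- The relations. -/
inductive Rel : ∀ {x y : Obj A}, Pre x y → Pre x y → Prop
  | refl {x y : Obj A} (f : Pre x y) : Rel f f
  | symm {x y : Obj A} {f g : Pre x y} : Rel f g → Rel g f
  | trans {x y : Obj A} {f g h : Pre x y} : Rel f g → Rel g h → Rel f h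
  | comp {x y z : Obj A} {f f' : Pre x y} {g g' : Pre y z} :
      Rel f f' → Rel g g' → Rel (f.comp g) (f'.comp g')
  | inv {x y : Obj A} {f f' : Pre x y} : Rel f f' → Rel f.inv f'.inv
  | tens {x y x' y' : Obj A} {f f' : Pre x y} {g g' : Pre x' y'} :
      Rel f f' → Rel g g' → Rel (f.tens g) (f'.tens g')
  | id_comp {x y : Obj A} (f : Pre x y) : Rel ((Pre.id x).comp f) f
  | comp_id {x y : Obj A} (f : Pre x y) : Rel (f.comp (Pre.id y)) f
  | comp_assoc {w x y z : Obj A} (f : Pre w x) (g : Pre x y) (h : Pre y z) :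
      Rel ((f.comp g).comp h) (f.comp (g.comp h))
  | comp_inv {x y : Obj A} (f : Pre x y) : Rel (f.comp f.inv) (Pre.id x)
  | inv_comp {x y : Obj A} (f : Pre x y) : Rel (f.inv.comp f) (Pre.id y)
  | tens_id (x y : Obj A) : Rel ((Pre.id x).tens (Pre.id y)) (Pre.id (.tens x y))
  | tens_comp {x y z x' y' z' : Obj A} (f : Pre x y) (f' : Pre x' y') (g : Pre y z) (g' : Pre y' z') :
      Rel ((f.tens f').comp (g.tens g')) ((f.comp g).tens (f'.comp g'))
  | assoc_nat {x₁ x₂ x₃ y₁ y₂ y₃ : Obj A} (f : Pre x₁ y₁) (g : Pre x₂ y₂) (h : Pre x₃ y₃) :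
      Rel (((f.tens g).tens h).comp (Pre.assoc y₁ y₂ y₃)) ((Pre.assoc x₁ x₂ x₃).comp (f.tens (g.tens h)))
  | lu_nat {x y : Obj A} (f : Pre x y) :
      Rel (((Pre.id .one).tens f).comp (Pre.lu y)) ((Pre.lu x).comp f)
  | ru_nat {x y : Obj A} (f : Pre x y) :
      Rel ((f.tens (Pre.id .one)).comp (Pre.ru y)) ((Pre.ru x).comp f)
  | pentagon (w x y z : Obj A) :
      Rel (((Pre.assoc w x y).tens (Pre.id z)).comp
          ((Pre.assoc w (.tens x y) z).comp ((Pre.id w).tens (Pre.assoc x y z))))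
        ((Pre.assoc (.tens w x) y z).comp (Pre.assoc w x (.tens y z)))
  | triangle (x y : Obj A) :
      Rel ((Pre.assoc x .one y).comp ((Pre.id x).tens (Pre.lu y))) ((Pre.ru x).tens (Pre.id y))
  | braid_nat {x y x' y' : Obj A} (f : Pre x y) (g : Pre x' y') :
      Rel ((f.tens g).comp (Pre.braid y y')) ((Pre.braid x x').comp (g.tens f))
  | hexagon (x y z : Obj A) :
      Rel ((Pre.assoc x y z).comp ((Pre.braid x (.tens y z)).comp (Pre.assoc y z x)))
        (((Pre.braid x y).tens (Pre.id z)).comp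
          ((Pre.assoc y x z).comp ((Pre.id y).tens (Pre.braid x z))))
  | hexagon' (x y z : Obj A) :
      Rel ((Pre.assoc x y z).inv.comp ((Pre.braid (.tens x y) z).comp (Pre.assoc z x y).inv))
        (((Pre.id x).tens (Pre.braid y z)).comp
          ((Pre.assoc x z y).inv.comp ((Pre.braid x z).tens (Pre.id y))))
  | symmetry (x y : Obj A) : Rel ((Pre.braid x y).comp (Pre.braid y x)) (Pre.id (.tens x y))
  | of_id (a : A) : Rel (Pre.of (𝟙 a)) (Pre.id (.of a))
  | of_comp {a b c : A} (f : a ⟶ b) (g : b ⟶ c) : Rel (Pre.of (f ≫ g)) ((Pre.of f).comp (Pre.of g))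
  | mul_nat {a b a' b' : A} (f : a ⟶ b) (g : a' ⟶ b') :
      Rel (((Pre.of f).tens (Pre.of g)).comp (Pre.mul b b')) ((Pre.mul a a').comp (Pre.of (f ⊗ₘ g)))
  | mul_assoc (a b c : A) :
      Rel (((Pre.mul a b).tens (Pre.id (.of c))).comp ((Pre.mul (a ⊗ b) c).comp (Pre.of (α_ a b c).hom)))
        ((Pre.assoc (.of a) (.of b) (.of c)).comp
          (((Pre.id (.of a)).tens (Pre.mul b c)).comp (Pre.mul a (b ⊗ c))))
  | mul_lu (a : A) :
      Rel (Pre.lu (.of a)) ((Pre.unit.tens (Pre.id (.of a))).comp ((Pre.mul (𝟙_ A) a).comp (Pre.of (λ_ a).hom)))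
  | mul_ru (a : A) :
      Rel (Pre.ru (.of a)) (((Pre.id (.of a)).tens Pre.unit).comp ((Pre.mul a (𝟙_ A)).comp (Pre.of (ρ_ a).hom)))
  | mul_braid (a b : A) :
      Rel ((Pre.mul a b).comp (Pre.of (β_ a b).hom)) ((Pre.braid (.of a) (.of b)).comp (Pre.mul b a))

instance preSetoid (x y : Obj A) : Setoid (Pre x y) :=
  ⟨Rel, ⟨Rel.refl, Rel.symm, Rel.trans⟩⟩

/-- The morphisms. -/
def Hom (x y : Obj A) : Type (max u v) := Quotient (preSetoid x y)

/-- Class of a formal morphism. -/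
def cls {x y : Obj A} (f : Pre x y) : Hom x y := Quotient.mk _ f

theorem cls_eq {x y : Obj A} {f g : Pre x y} (h : Rel f g) : cls f = cls g := Quotient.sound h

instance : Category.{max u v} (Obj A) where
  Hom := Hom
  id x := cls (Pre.id x)
  comp := Quotient.map₂ Pre.comp fun _ _ h _ _ h' => Rel.comp h h'
  id_comp f := Quotient.inductionOn f fun f => cls_eq (Rel.id_comp f)
  comp_id f := Quotient.inductionOn f fun f => cls_eq (Rel.comp_id f)
  assoc f g h := Quotient.inductionOn₃ f g h fun f g h => cls_eq (Rel.comp_assoc f g h)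

theorem hom_induction {x y : Obj A} {P : (x ⟶ y) → Prop} (h : ∀ f : Pre x y, P (cls f)) (f : x ⟶ y) : P f :=
  Quotient.inductionOn f h

/-- A formal morphism as an isomorphism. -/
def iso {x y : Obj A} (f : Pre x y) : x ≅ y where
  hom := cls f
  inv := cls f.inv
  hom_inv_id := cls_eq (Rel.comp_inv f)
  inv_hom_id := cls_eq (Rel.inv_comp f)

instance : IsGroupoid (Obj A) where
  all_isIso f := hom_induction (fun f => (iso f).isIso_hom) f

/-- The product of morphisms. -/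
def tensH {x y x' y' : Obj A} : (x ⟶ y) → (x' ⟶ y') → (Obj.tens x x' ⟶ Obj.tens y y') :=
  Quotient.map₂ Pre.tens fun _ _ h _ _ h' => Rel.tens h h'

instance : MonoidalCategoryStruct (Obj A) where
  tensorObj := Obj.tens
  whiskerLeft x _ _ g := tensH (𝟙 x) g
  whiskerRight f y := tensH f (𝟙 y)
  tensorHom := tensH
  tensorUnit := Obj.one
  associator x y z := iso (Pre.assoc x y z)
  leftUnitor x := iso (Pre.lu x)
  rightUnitor x := iso (Pre.ru x)

instance : MonoidalCategory (Obj A) :=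
  MonoidalCategory.ofTensorHom
    (id_tensorHom_id := fun x y => cls_eq (Rel.tens_id x y))
    (id_tensorHom := fun _ _ _ _ => rfl)
    (tensorHom_id := fun _ _ => rfl)
    (tensorHom_comp_tensorHom := fun f f' g g' => Quotient.inductionOn₂ f f' fun f f' =>
      Quotient.inductionOn₂ g g' fun g g' => cls_eq (Rel.tens_comp f f' g g'))
    (associator_naturality := fun f g h => Quotient.inductionOn₃ f g h fun f g h =>
      cls_eq (Rel.assoc_nat f g h))
    (leftUnitor_naturality := fun f => Quotient.inductionOn f fun f => cls_eq (Rel.lu_nat f))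
    (rightUnitor_naturality := fun f => Quotient.inductionOn f fun f => cls_eq (Rel.ru_nat f))
    (pentagon := fun w x y z => cls_eq (Rel.pentagon w x y z))
    (triangle := fun x y => cls_eq (Rel.triangle x y))

instance : SymmetricCategory (Obj A) where
  braiding x y := iso (Pre.braid x y)
  braiding_naturality_right x _ _ f := Quotient.inductionOn f (fun f => cls_eq (Rel.braid_nat (Pre.id x) f))
  braiding_naturality_left {_ _} f z := Quotient.inductionOn f (fun f => cls_eq (Rel.braid_nat f (Pre.id z)))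
  hexagon_forward x y z := cls_eq (Rel.hexagon x y z)
  hexagon_reverse x y z := cls_eq (Rel.hexagon' x y z)
  symmetry x y := cls_eq (Rel.symmetry x y)

variable (A) in
/-- The inclusion. -/
def incl : A ⥤ Obj A where
  obj := Obj.of
  map f := cls (Pre.of f)
  map_id a := cls_eq (Rel.of_id a)
  map_comp f g := cls_eq (Rel.of_comp f g)

theorem cls_id (x : Obj A) : cls (Pre.id x) = 𝟙 x := rfl

instance inclLaxMonoidal : (incl A).LaxMonoidal where
  ε := cls Pre.unit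
  μ a b := cls (Pre.mul a b)
  μ_natural_left {a b} f c := by
    have h := cls_eq (Rel.mul_nat f (𝟙 c))
    rw [MonoidalCategory.tensorHom_id] at h
    have h2 : cls (((Pre.of f).tens (Pre.id (Obj.of c))).comp (Pre.mul b c)) =
        cls (((Pre.of f).tens (Pre.of (𝟙 c))).comp (Pre.mul b c)) :=
      cls_eq (Rel.comp (Rel.tens (Rel.refl _) (Rel.of_id c).symm) (Rel.refl _))
    exact h2.trans h
  μ_natural_right {a b} c f := by
    have h := cls_eq (Rel.mul_nat (𝟙 c) f)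
    rw [MonoidalCategory.id_tensorHom] at h
    have h2 : cls (((Pre.id (Obj.of c)).tens (Pre.of f)).comp (Pre.mul c b)) =
        cls (((Pre.of (𝟙 c)).tens (Pre.of f)).comp (Pre.mul c b)) :=
      cls_eq (Rel.comp (Rel.tens (Rel.of_id c).symm (Rel.refl _)) (Rel.refl _))
    exact h2.trans h
  associativity a b c := cls_eq (Rel.mul_assoc a b c)
  left_unitality a := cls_eq (Rel.mul_lu a)
  right_unitality a := cls_eq (Rel.mul_ru a)

instance inclLaxBraided : (incl A).LaxBraided where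
  braided a b := cls_eq (Rel.mul_braid a b)

theorem isEquivalence_tensor (x : Obj A) :
    (tensorLeft x).IsEquivalence ∧ (tensorRight x).IsEquivalence := by
  let e : Obj.neg x ⊗ x ≅ 𝟙_ (Obj A) := iso (Pre.eval x)
  let e' : x ⊗ Obj.neg x ≅ 𝟙_ (Obj A) := β_ _ _ ≪≫ e
  let E : Obj A ≌ Obj A := CategoryTheory.Equivalence.mk (tensorRight x) (tensorRight (Obj.neg x))
    ((rightUnitorNatIso (Obj A)).symm ≪≫ (tensoringRight (Obj A)).mapIso e'.symm ≪≫
      tensorRightTensor x (Obj.neg x))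
    ((tensorRightTensor (Obj.neg x) x).symm ≪≫ (tensoringRight (Obj A)).mapIso e ≪≫
      rightUnitorNatIso (Obj A))
  have hR : (tensorRight x).IsEquivalence := E.isEquivalence_functor
  exact ⟨Functor.isEquivalence_of_iso (BraidedCategory.tensorLeftIsoTensorRight x).symm, hR⟩

section Target

variable {P : Type u'} [Category.{v'} P] [MonoidalCategory P] [SymmetricCategory P] [IsGroupoid P]
  (hP : ∀ X : P, (tensorLeft X).IsEquivalence ∧ (tensorRight X).IsEquivalence)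

/-- A chosen inverse object. -/
noncomputable def negObj (X : P) : P :=
  haveI := (hP X).2
  (tensorRight X).objPreimage (𝟙_ P)

/-- The chosen isomorphism `negObj X ⊗ X ≅ 𝟙`. -/
noncomputable def evalIso (X : P) : negObj hP X ⊗ X ≅ 𝟙_ P :=
  haveI := (hP X).2
  (tensorRight X).objObjPreimageIso (𝟙_ P)

section Lift

variable (Φ : A ⥤ P) [Φ.LaxBraided]

/-- Objects of the extension. -/
noncomputable def liftObj : Obj A → P
  | .of a => Φ.obj a
  | .one => 𝟙_ P
  | .tens x y => liftObj x ⊗ liftObj y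
  | .neg x => negObj hP (liftObj x)

/-- The extension on formal morphisms. -/
noncomputable def liftPre : ∀ {x y : Obj A}, Pre x y → (liftObj hP Φ x ⟶ liftObj hP Φ y)
  | _, _, .id _ => 𝟙 _
  | _, _, .comp f g => liftPre f ≫ liftPre g
  | _, _, .inv f => CategoryTheory.inv (liftPre f)
  | _, _, .of f => Φ.map f
  | _, _, .tens f g => liftPre f ⊗ₘ liftPre g
  | _, _, .assoc _ _ _ => (α_ _ _ _).hom
  | _, _, .lu _ => (λ_ _).hom
  | _, _, .ru _ => (ρ_ _).hom
  | _, _, .braid _ _ => (β_ _ _).hom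
  | _, _, .eval x => (evalIso hP (liftObj hP Φ x)).hom
  | _, _, .unit => ε Φ
  | _, _, .mul a b => μ Φ a b

theorem liftPre_congr {x y : Obj A} {f g : Pre x y} (h : Rel f g) : liftPre hP Φ f = liftPre hP Φ g := by
  induction h with
  | refl => rfl
  | symm _ ih => exact ih.symm
  | trans _ _ ih ih' => exact ih.trans ih'
  | comp _ _ ih ih' => simp only [liftPre, ih, ih']
  | inv _ ih => simp only [liftPre, ih]
  | tens _ _ ih ih' => simp only [liftPre, ih, ih']
  | id_comp f => exact Category.id_comp _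
  | comp_id f => exact Category.comp_id _
  | comp_assoc f g h => exact Category.assoc _ _ _
  | comp_inv f => exact IsIso.hom_inv_id _
  | inv_comp f => exact IsIso.inv_hom_id _
  | tens_id x y => exact id_tensorHom_id _ _
  | tens_comp f f' g g' => exact tensorHom_comp_tensorHom _ _ _ _
  | assoc_nat f g h => exact associator_naturality _ _ _
  | lu_nat f =>
    simp only [liftPre]
    exact (congrArg (· ≫ (λ_ _).hom) (id_tensorHom _ _)).trans (leftUnitor_naturality _)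
  | ru_nat f =>
    simp only [liftPre]
    exact (congrArg (· ≫ (ρ_ _).hom) (tensorHom_id _ _)).trans (rightUnitor_naturality _)
  | pentagon w x y z => simp only [liftPre, tensorHom_id, id_tensorHom]; exact MonoidalCategory.pentagon _ _ _ _
  | triangle x y => simp only [liftPre, tensorHom_id, id_tensorHom]; exact MonoidalCategory.triangle _ _
  | braid_nat f g => simp only [liftPre]; exact BraidedCategory.braiding_naturality _ _
  | hexagon x y z => simp only [liftPre, tensorHom_id, id_tensorHom]; exact BraidedCategory.hexagon_forward _ _ _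
  | hexagon' x y z =>
    simp only [liftPre, tensorHom_id, id_tensorHom, IsIso.Iso.inv_hom]
    exact BraidedCategory.hexagon_reverse _ _ _
  | symmetry x y => exact SymmetricCategory.symmetry _ _
  | of_id a => exact Φ.map_id a
  | of_comp f g => exact Φ.map_comp f g
  | mul_nat f g => exact μ_natural Φ f g
  | mul_assoc a b c => simp only [liftPre, liftObj, tensorHom_id, id_tensorHom]; exact associativity Φ a b c
  | mul_lu a => simp only [liftPre, liftObj, tensorHom_id]; exact left_unitality Φ a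
  | mul_ru a => simp only [liftPre, liftObj, id_tensorHom]; exact right_unitality Φ a
  | mul_braid a b => exact Functor.LaxBraided.braided a b

/-- The extension. -/
noncomputable def lift : Obj A ⥤ P where
  obj := liftObj hP Φ
  map {x y} f := Quotient.liftOn f (liftPre hP Φ) fun _ _ h => liftPre_congr hP Φ h
  map_id _ := rfl
  map_comp f g := Quotient.inductionOn₂ f g fun _ _ => rfl

noncomputable instance : (lift hP Φ).LaxMonoidal where
  ε := 𝟙 (𝟙_ P)
  μ x y := 𝟙 (liftObj hP Φ x ⊗ liftObj hP Φ y)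
  μ_natural_left {x y} f z := Quotient.inductionOn f (fun f => by
    show liftPre hP Φ f ▷ _ ≫ 𝟙 _ = 𝟙 _ ≫ (liftPre hP Φ f ⊗ₘ 𝟙 _)
    rw [Category.comp_id, Category.id_comp, tensorHom_id])
  μ_natural_right {x y} z f := Quotient.inductionOn f (fun f => by
    show _ ◁ liftPre hP Φ f ≫ 𝟙 _ = 𝟙 _ ≫ (𝟙 _ ⊗ₘ liftPre hP Φ f)
    rw [Category.comp_id, Category.id_comp, id_tensorHom])
  associativity x y z := by
    show 𝟙 _ ▷ _ ≫ 𝟙 _ ≫ (α_ _ _ _).hom = (α_ _ _ _).hom ≫ _ ◁ 𝟙 _ ≫ 𝟙 _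
    simp
  left_unitality x := by
    show (λ_ _).hom = 𝟙 (𝟙_ P) ▷ _ ≫ 𝟙 _ ≫ (λ_ _).hom
    simp
  right_unitality x := by
    show (ρ_ _).hom = _ ◁ 𝟙 (𝟙_ P) ≫ 𝟙 _ ≫ (ρ_ _).hom
    simp

noncomputable instance : (lift hP Φ).LaxBraided where
  braided x y := by
    show 𝟙 _ ≫ (β_ _ _).hom = (β_ _ _).hom ≫ 𝟙 _
    simp

/-- The extension restricts to the given functor. -/
noncomputable def inclLift : incl A ⋙ lift hP Φ ≅ Φ := NatIso.ofComponents (fun _ => Iso.refl _) fun f => by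
  show Φ.map f ≫ 𝟙 _ = 𝟙 _ ≫ Φ.map f
  simp

instance isMonoidal_inclLift : NatTrans.IsMonoidal (inclLift hP Φ).hom where
  unit := by
    show (𝟙 _ ≫ ε Φ) ≫ 𝟙 _ = ε Φ
    simp
  tensor a b := by
    show (𝟙 _ ≫ μ Φ a b) ≫ 𝟙 _ = (𝟙 _ ⊗ₘ 𝟙 _) ≫ μ Φ a b
    simp

end Lift

section Ext

variable (Ψ Ψ' : Obj A ⥤ P) [Ψ.LaxBraided] [Ψ'.LaxBraided] (τ : incl A ⋙ Ψ ⟶ incl A ⋙ Ψ')

/-- The components of the extension of a transformation. -/
noncomputable def extApp : ∀ x : Obj A, Ψ.obj x ⟶ Ψ'.obj x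
  | .of a => τ.app a
  | .one => CategoryTheory.inv (ε Ψ) ≫ ε Ψ'
  | .tens x y => CategoryTheory.inv (μ Ψ x y) ≫ (extApp x ⊗ₘ extApp y) ≫ μ Ψ' x y
  | .neg x =>
    haveI := (hP (Ψ.obj x)).2
    (tensorRight (Ψ.obj x)).preimage
      (μ Ψ (Obj.neg x) x ≫ Ψ.map (cls (Pre.eval x)) ≫ (CategoryTheory.inv (ε Ψ) ≫ ε Ψ') ≫
        CategoryTheory.inv (Ψ'.map (cls (Pre.eval x))) ≫ CategoryTheory.inv (μ Ψ' (Obj.neg x) x) ≫
        Ψ'.obj (Obj.neg x) ◁ CategoryTheory.inv (extApp x))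

theorem extApp_one : extApp hP Ψ Ψ' τ (𝟙_ (Obj A)) = CategoryTheory.inv (ε Ψ) ≫ ε Ψ' := rfl

theorem extApp_tens (x y : Obj A) : extApp hP Ψ Ψ' τ (x ⊗ y) =
    CategoryTheory.inv (μ Ψ x y) ≫ (extApp hP Ψ Ψ' τ x ⊗ₘ extApp hP Ψ Ψ' τ y) ≫ μ Ψ' x y := rfl

theorem extApp_neg (x : Obj A) :
    extApp hP Ψ Ψ' τ (Obj.neg x) ▷ Ψ.obj x =
      μ Ψ (Obj.neg x) x ≫ Ψ.map (cls (Pre.eval x)) ≫ (CategoryTheory.inv (ε Ψ) ≫ ε Ψ') ≫
        CategoryTheory.inv (Ψ'.map (cls (Pre.eval x))) ≫ CategoryTheory.inv (μ Ψ' (Obj.neg x) x) ≫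
        Ψ'.obj (Obj.neg x) ◁ CategoryTheory.inv (extApp hP Ψ Ψ' τ x) :=
  haveI := (hP (Ψ.obj x)).2
  (tensorRight (Ψ.obj x)).map_preimage _

variable [NatTrans.IsMonoidal τ]

theorem extApp_naturality {x y : Obj A} (f : Pre x y) :
    Ψ.map (cls f) ≫ extApp hP Ψ Ψ' τ y = extApp hP Ψ Ψ' τ x ≫ Ψ'.map (cls f) := by
  induction f with
  | id x =>
    rw [cls_id, Ψ.map_id, Ψ'.map_id, Category.id_comp, Category.comp_id]
  | comp f g ihf ihg =>
    show Ψ.map (cls f ≫ cls g) ≫ _ = _ ≫ Ψ'.map (cls f ≫ cls g)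
    rw [Ψ.map_comp, Ψ'.map_comp, Category.assoc, ihg, ← Category.assoc, ihf, Category.assoc]
  | inv f ih =>
    show Ψ.map (iso f).inv ≫ _ = _ ≫ Ψ'.map (iso f).inv
    rw [← cancel_epi (Ψ.map (iso f).hom), ← Category.assoc, ← Ψ.map_comp, Iso.hom_inv_id, Ψ.map_id,
      Category.id_comp, ← Category.assoc]
    show _ = (Ψ.map (cls f) ≫ _) ≫ _
    rw [ih, Category.assoc]
    show _ = _ ≫ Ψ'.map (iso f).hom ≫ Ψ'.map (iso f).inv
    rw [← Ψ'.map_comp, Iso.hom_inv_id, Ψ'.map_id, Category.comp_id]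
  | of f => exact τ.naturality f
  | @tens x y x' y' f g ihf ihg =>
    show Ψ.map (cls f ⊗ₘ cls g) ≫ extApp hP Ψ Ψ' τ (y ⊗ y') =
      extApp hP Ψ Ψ' τ (x ⊗ x') ≫ Ψ'.map (cls f ⊗ₘ cls g)
    rw [extApp_tens, extApp_tens, ← cancel_epi (μ Ψ x x'), ← μ_natural_assoc]
    simp only [Category.assoc, IsIso.hom_inv_id_assoc]
    rw [← μ_natural, tensorHom_comp_tensorHom_assoc, tensorHom_comp_tensorHom_assoc, ihf, ihg]
  | assoc x y z =>
    show Ψ.map (α_ x y z).hom ≫ extApp hP Ψ Ψ' τ (x ⊗ y ⊗ z) =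
      extApp hP Ψ Ψ' τ ((x ⊗ y) ⊗ z) ≫ Ψ'.map (α_ x y z).hom
    rw [extApp_tens, extApp_tens, extApp_tens, extApp_tens, ← cancel_epi (μ Ψ (x ⊗ y) z),
      ← cancel_epi (μ Ψ x y ▷ Ψ.obj z), associativity_assoc]
    simp only [Category.assoc, IsIso.hom_inv_id_assoc]
    simp only [← tensorHom_id, ← id_tensorHom, tensorHom_comp_tensorHom_assoc, IsIso.hom_inv_id_assoc,
      Category.id_comp]
    rw [show (extApp hP Ψ Ψ' τ x ⊗ₘ (extApp hP Ψ Ψ' τ y ⊗ₘ extApp hP Ψ Ψ' τ z) ≫ μ Ψ' y z) =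
        (extApp hP Ψ Ψ' τ x ⊗ₘ (extApp hP Ψ Ψ' τ y ⊗ₘ extApp hP Ψ Ψ' τ z)) ≫ Ψ'.obj x ◁ μ Ψ' y z by
          rw [← id_tensorHom, tensorHom_comp_tensorHom, Category.comp_id],
      show ((extApp hP Ψ Ψ' τ x ⊗ₘ extApp hP Ψ Ψ' τ y) ≫ μ Ψ' x y ⊗ₘ extApp hP Ψ Ψ' τ z) =
        ((extApp hP Ψ Ψ' τ x ⊗ₘ extApp hP Ψ Ψ' τ y) ⊗ₘ extApp hP Ψ Ψ' τ z) ≫ μ Ψ' x y ▷ Ψ'.obj z by
          rw [← tensorHom_id, tensorHom_comp_tensorHom, Category.comp_id]]
    simp only [Category.assoc]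
    rw [associativity, associator_naturality_assoc]
  | lu x =>
    show Ψ.map (λ_ x).hom ≫ extApp hP Ψ Ψ' τ x = extApp hP Ψ Ψ' τ (𝟙_ (Obj A) ⊗ x) ≫ Ψ'.map (λ_ x).hom
    rw [extApp_tens, extApp_one, ← cancel_epi (μ Ψ (𝟙_ _) x), ← cancel_epi (ε Ψ ▷ Ψ.obj x)]
    simp only [Category.assoc, IsIso.hom_inv_id_assoc]
    rw [← left_unitality_assoc, ← tensorHom_id, tensorHom_comp_tensorHom_assoc, IsIso.hom_inv_id_assoc,
      Category.id_comp, tensorHom_def', Category.assoc, ← left_unitality, leftUnitor_naturality]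
  | ru x =>
    show Ψ.map (ρ_ x).hom ≫ extApp hP Ψ Ψ' τ x = extApp hP Ψ Ψ' τ (x ⊗ 𝟙_ (Obj A)) ≫ Ψ'.map (ρ_ x).hom
    rw [extApp_tens, extApp_one, ← cancel_epi (μ Ψ x (𝟙_ _)), ← cancel_epi (Ψ.obj x ◁ ε Ψ)]
    simp only [Category.assoc, IsIso.hom_inv_id_assoc]
    rw [← right_unitality_assoc, ← id_tensorHom, tensorHom_comp_tensorHom_assoc, IsIso.hom_inv_id_assoc,
      Category.id_comp, tensorHom_def, Category.assoc, ← right_unitality, rightUnitor_naturality]
  | braid x y =>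
    show Ψ.map (β_ x y).hom ≫ extApp hP Ψ Ψ' τ (y ⊗ x) = extApp hP Ψ Ψ' τ (x ⊗ y) ≫ Ψ'.map (β_ x y).hom
    rw [extApp_tens, extApp_tens, ← cancel_epi (μ Ψ x y), Functor.LaxBraided.braided_assoc]
    simp only [Category.assoc, IsIso.hom_inv_id_assoc]
    rw [Functor.LaxBraided.braided, BraidedCategory.braiding_naturality_assoc]
  | eval x =>
    show Ψ.map (cls (Pre.eval x)) ≫ extApp hP Ψ Ψ' τ (𝟙_ (Obj A)) =
      extApp hP Ψ Ψ' τ (Obj.neg x ⊗ x) ≫ Ψ'.map (cls (Pre.eval x))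
    rw [extApp_one, extApp_tens, tensorHom_def, extApp_neg]
    simp only [Category.assoc, IsIso.inv_hom_id_assoc, ← whiskerLeft_comp_assoc, IsIso.inv_hom_id,
      whiskerLeft_id, Category.id_comp, Category.comp_id]
  | unit =>
    show Ψ.map (cls Pre.unit) ≫ τ.app (𝟙_ A) = extApp hP Ψ Ψ' τ (𝟙_ (Obj A)) ≫ Ψ'.map (cls Pre.unit)
    have h := NatTrans.IsMonoidal.unit (τ := τ)
    change (ε Ψ ≫ Ψ.map (cls Pre.unit)) ≫ τ.app (𝟙_ A) = ε Ψ' ≫ Ψ'.map (cls Pre.unit) at h
    rw [extApp_one, ← cancel_epi (ε Ψ), ← Category.assoc, h]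
    simp only [Category.assoc]
    exact (IsIso.hom_inv_id_assoc _ _).symm
  | mul a b =>
    show Ψ.map (cls (Pre.mul a b)) ≫ τ.app (a ⊗ b) =
      extApp hP Ψ Ψ' τ (Obj.of a ⊗ Obj.of b) ≫ Ψ'.map (cls (Pre.mul a b))
    have h := NatTrans.IsMonoidal.tensor (τ := τ) a b
    change (μ Ψ (Obj.of a) (Obj.of b) ≫ Ψ.map (cls (Pre.mul a b))) ≫ τ.app (a ⊗ b) =
      (τ.app a ⊗ₘ τ.app b) ≫ μ Ψ' (Obj.of a) (Obj.of b) ≫ Ψ'.map (cls (Pre.mul a b)) at h
    rw [extApp_tens, ← cancel_epi (μ Ψ (Obj.of a) (Obj.of b)), ← Category.assoc, h]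
    simp only [Category.assoc]
    exact (IsIso.hom_inv_id_assoc _ _).symm

include hP in
theorem existsUnique_ext :
    ∃! θ : Ψ ⟶ Ψ', NatTrans.IsMonoidal θ ∧ Functor.whiskerLeft (incl A) θ = τ := by
  refine ⟨⟨extApp hP Ψ Ψ' τ, fun _ _ f => Quotient.inductionOn f (fun f => extApp_naturality hP Ψ Ψ' τ f)⟩,
    ⟨⟨?_, fun x y => ?_⟩, rfl⟩, ?_⟩
  · show ε Ψ ≫ extApp hP Ψ Ψ' τ (𝟙_ (Obj A)) = ε Ψ'
    rw [extApp_one, IsIso.hom_inv_id_assoc]
  · show μ Ψ x y ≫ extApp hP Ψ Ψ' τ (x ⊗ y) = _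
    rw [extApp_tens, IsIso.hom_inv_id_assoc]
  rintro θ ⟨hθ, hθτ⟩
  ext x
  show θ.app x = extApp hP Ψ Ψ' τ x
  induction x with
  | of a => exact congrArg (fun t => t.app a) hθτ
  | one =>
    show θ.app (𝟙_ (Obj A)) = extApp hP Ψ Ψ' τ (𝟙_ (Obj A))
    rw [extApp_one, IsIso.eq_inv_comp, NatTrans.IsMonoidal.unit]
  | tens x y ihx ihy =>
    show θ.app (x ⊗ y) = extApp hP Ψ Ψ' τ (x ⊗ y)
    rw [extApp_tens, IsIso.eq_inv_comp, NatTrans.IsMonoidal.tensor, ihx, ihy]
  | neg x ih =>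
    haveI := (hP (Ψ.obj x)).2
    apply (tensorRight (Ψ.obj x)).map_injective
    show θ.app (Obj.neg x) ▷ Ψ.obj x = extApp hP Ψ Ψ' τ (Obj.neg x) ▷ Ψ.obj x
    have h1 : θ.app (𝟙_ (Obj A)) = CategoryTheory.inv (ε Ψ) ≫ ε Ψ' := by
      rw [IsIso.eq_inv_comp, NatTrans.IsMonoidal.unit]
    have hn : Ψ.map (cls (Pre.eval x)) ≫ θ.app (𝟙_ (Obj A)) =
        θ.app (Obj.neg x ⊗ x) ≫ Ψ'.map (cls (Pre.eval x)) := θ.naturality _
    rw [extApp_neg, ← h1, ← Category.assoc (Ψ.map (cls (Pre.eval x))), hn, Category.assoc]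
    show _ = μ Ψ (Obj.neg x) x ≫ θ.app (Obj.neg x ⊗ x) ≫ _
    simp only [IsIso.hom_inv_id_assoc, NatTrans.IsMonoidal.tensor_assoc, tensorHom_def, Category.assoc,
      ← ih, ← whiskerLeft_comp, IsIso.hom_inv_id, whiskerLeft_id, Category.comp_id]

end Ext

end Target

end Groth.Agent.PicardCpl
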